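import Mathlib
import Groth.Prelude.Def_AlgGrp
import Groth.Prelude.Def_Grpd

/-!
# The action groupoid of a group scheme action (helper3)
-/

set_option autoImplicit false

universe u

open CategoryTheory CategoryTheory.Limits MonoidalCategory CartesianMonoidalCategory MonObj
  AlgebraicGeometry

namespace Groth.Agent.H3.ActGrpd

variable {S : Scheme.{u}} {G X : Over S} [GrpObj G] (a : AlgGrp.Action G X)

/-- The action on points. -/
noncomputable def sm {T : Over S} (g : T ⟶ G) (x : T ⟶ X) : T ⟶ X := lift g x ≫ a.act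

lemma one_sm {T : Over S} (x : T ⟶ X) : sm a 1 x = x := by
  unfold sm
  rw [Hom.one_def, ← lift_whiskerRight, Category.assoc, a.one_act, lift_leftUnitor_hom]

lemma mul_sm {T : Over S} (g h : T ⟶ G) (x : T ⟶ X) : sm a (g * h) x = sm a g (sm a h x) := by
  unfold sm
  rw [Hom.mul_def, ← lift_whiskerRight, Category.assoc, a.mul_act,
    lift_lift_associator_hom_assoc, lift_whiskerLeft_assoc]

lemma comp_sm {T T' : Over S} (k : T' ⟶ T) (g : T ⟶ G) (x : T ⟶ X) :
    k ≫ sm a g x = sm a (k ≫ g) (k ≫ x) := by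
  unfold sm
  rw [← Category.assoc, comp_lift]

lemma act_eq_sm {T : Over S} (r : T ⟶ G ⊗ X) : r ≫ a.act = sm a (r ≫ fst G X) (r ≫ snd G X) := by
  unfold sm
  rw [lift_comp_fst_snd]

lemma act_eq : a.act = sm a (fst G X) (snd G X) := by
  unfold sm
  rw [lift_fst_snd, Category.id_comp]

lemma inv_sm_sm {T : Over S} (g : T ⟶ G) (x : T ⟶ X) : sm a g⁻¹ (sm a g x) = x := by
  rw [← mul_sm, inv_mul_cancel, one_sm]

lemma sm_inv_sm {T : Over S} (g : T ⟶ G) (x : T ⟶ X) : sm a g (sm a g⁻¹ x) = x := by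
  rw [← mul_sm, mul_inv_cancel, one_sm]

/-- Composition of arrows of the action groupoid, on points. -/
noncomputable def compO {T : Over S} (α β : T ⟶ G ⊗ X) : T ⟶ G ⊗ X :=
  lift ((α ≫ fst G X) * (β ≫ fst G X)) (β ≫ snd G X)

@[simp] lemma compO_fst {T : Over S} (α β : T ⟶ G ⊗ X) :
    compO α β ≫ fst G X = (α ≫ fst G X) * (β ≫ fst G X) := lift_fst _ _

@[simp] lemma compO_snd {T : Over S} (α β : T ⟶ G ⊗ X) :
    compO α β ≫ snd G X = β ≫ snd G X := lift_snd _ _

lemma comp_compO {T T' : Over S} (k : T' ⟶ T) (α β : T ⟶ G ⊗ X) :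
    k ≫ compO α β = compO (k ≫ α) (k ≫ β) := by
  unfold compO
  rw [comp_lift, comp_mul]
  simp only [Category.assoc]

lemma compO_act {T : Over S} (α β : T ⟶ G ⊗ X) (h : α ≫ snd G X = β ≫ a.act) :
    compO α β ≫ a.act = α ≫ a.act := by
  rw [act_eq_sm, compO_fst, compO_snd, mul_sm, ← act_eq_sm, ← h, ← act_eq_sm]

lemma compO_assoc {T : Over S} (α β ζ : T ⟶ G ⊗ X) :
    compO (compO α β) ζ = compO α (compO β ζ) := by
  apply CartesianMonoidalCategory.hom_ext
  · simp only [compO_fst]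
    exact _root_.mul_assoc _ _ _
  · simp only [compO_snd]

/-- The identity arrows. -/
noncomputable def eO : X ⟶ G ⊗ X := lift 1 (𝟙 X)

/-- The inverse. -/
noncomputable def iO : G ⊗ X ⟶ G ⊗ X := lift (fst G X)⁻¹ a.act

lemma eO_snd : (eO : X ⟶ G ⊗ X) ≫ snd G X = 𝟙 X := lift_snd _ _

lemma eO_fst : (eO : X ⟶ G ⊗ X) ≫ fst G X = 1 := lift_fst _ _

lemma eO_act : (eO : X ⟶ G ⊗ X) ≫ a.act = 𝟙 X := by
  rw [act_eq_sm, eO_fst, eO_snd, one_sm]

lemma iO_fst : iO a ≫ fst G X = (fst G X)⁻¹ := lift_fst _ _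

lemma iO_snd : iO a ≫ snd G X = a.act := lift_snd _ _

lemma iO_act : iO a ≫ a.act = snd G X := by
  rw [act_eq_sm, iO_fst, iO_snd, act_eq a, inv_sm_sm]

lemma compO_eO {T : Over S} (α : T ⟶ G ⊗ X) : compO α (α ≫ snd G X ≫ eO) = α := by
  apply CartesianMonoidalCategory.hom_ext
  · rw [compO_fst, Category.assoc, Category.assoc, eO_fst, comp_one, comp_one, _root_.mul_one]
  · rw [compO_snd, Category.assoc, Category.assoc, eO_snd, Category.comp_id]

lemma eO_compO {T : Over S} (α : T ⟶ G ⊗ X) : compO (α ≫ a.act ≫ eO) α = α := by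
  apply CartesianMonoidalCategory.hom_ext
  · rw [compO_fst, Category.assoc, Category.assoc, eO_fst, comp_one, comp_one, _root_.one_mul]
  · rw [compO_snd]

lemma compO_iO {T : Over S} (α : T ⟶ G ⊗ X) : compO α (α ≫ iO a) = α ≫ a.act ≫ eO := by
  apply CartesianMonoidalCategory.hom_ext
  · rw [compO_fst, Category.assoc, iO_fst, GrpObj.comp_inv, mul_inv_cancel, Category.assoc,
      Category.assoc, eO_fst, comp_one, comp_one]
  · rw [compO_snd, Category.assoc, iO_snd, Category.assoc, Category.assoc, eO_snd,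
      Category.comp_id]

lemma iO_compO {T : Over S} (α : T ⟶ G ⊗ X) : compO (α ≫ iO a) α = α ≫ snd G X ≫ eO := by
  apply CartesianMonoidalCategory.hom_ext
  · rw [compO_fst, Category.assoc, iO_fst, GrpObj.comp_inv, inv_mul_cancel, Category.assoc,
      Category.assoc, eO_fst, comp_one, comp_one]
  · rw [compO_snd, Category.assoc, Category.assoc, eO_snd, Category.comp_id]

/-! ### The groupoid scheme -/

lemma p2_over : pullback.snd (snd G X).left a.act.left ≫ (G ⊗ X).hom =
    pullback.fst (snd G X).left a.act.left ≫ (G ⊗ X).hom := by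
  have e1 : (G ⊗ X).hom = (snd G X).left ≫ X.hom := (Over.w (snd G X)).symm
  have e2 : (G ⊗ X).hom = a.act.left ≫ X.hom := (Over.w a.act).symm
  calc pullback.snd (snd G X).left a.act.left ≫ (G ⊗ X).hom
      = pullback.snd (snd G X).left a.act.left ≫ a.act.left ≫ X.hom := by rw [← e2]
    _ = pullback.fst (snd G X).left a.act.left ≫ (snd G X).left ≫ X.hom := by
        rw [← Category.assoc, ← pullback.condition, Category.assoc]
    _ = _ := by rw [← e1]

/-- The scheme of composable pairs, over `S`. -/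
noncomputable def PO : Over S :=
  Over.mk (pullback.fst (snd G X).left a.act.left ≫ (G ⊗ X).hom)

/-- First projection. -/
noncomputable def p1O : PO a ⟶ G ⊗ X := Over.homMk (pullback.fst (snd G X).left a.act.left) rfl

/-- Second projection. -/
noncomputable def p2O : PO a ⟶ G ⊗ X :=
  Over.homMk (pullback.snd (snd G X).left a.act.left) (p2_over a)

/-- Composition. -/
noncomputable def cO : PO a ⟶ G ⊗ X := compO (p1O a) (p2O a)

lemma bridge (T : Over S) (α β : T ⟶ G ⊗ X)
    (h : α.left ≫ (snd G X).left = β.left ≫ a.act.left) :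
    pullback.lift α.left β.left h ≫ (cO a).left = (compO α β).left := by
  have hl : pullback.lift α.left β.left h ≫ (PO a).hom = T.hom := by
    change pullback.lift α.left β.left h ≫ pullback.fst (snd G X).left a.act.left ≫ (G ⊗ X).hom
      = T.hom
    rw [pullback.lift_fst_assoc]
    exact Over.w α
  let lO : T ⟶ PO a := Over.homMk (pullback.lift α.left β.left h) hl
  have h1 : lO ≫ p1O a = α := by
    apply Over.OverMorphism.ext
    exact pullback.lift_fst _ _ _
  have h2 : lO ≫ p2O a = β := by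
    apply Over.OverMorphism.ext
    exact pullback.lift_snd _ _ _
  calc pullback.lift α.left β.left h ≫ (cO a).left = (lO ≫ cO a).left := rfl
    _ = (compO (lO ≫ p1O a) (lO ≫ p2O a)).left := by rw [cO, comp_compO]
    _ = _ := by rw [h1, h2]

lemma bridge' (T : Over S) (A B : T.left ⟶ (G ⊗ X).left)
    (h : A ≫ (snd G X).left = B ≫ a.act.left) (AO BO : T ⟶ G ⊗ X) (hA : AO.left = A)
    (hB : BO.left = B) : pullback.lift A B h ≫ (cO a).left = (compO AO BO).left := by
  subst hA hB
  exact bridge a T AO BO h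

lemma over_eq_of_s_t {T : Scheme.{u}} (α β : T ⟶ (G ⊗ X).left)
    (h : α ≫ (snd G X).left = β ≫ a.act.left) : β ≫ (G ⊗ X).hom = α ≫ (G ⊗ X).hom := by
  have e1 : (G ⊗ X).hom = (snd G X).left ≫ X.hom := (Over.w (snd G X)).symm
  have e2 : (G ⊗ X).hom = a.act.left ≫ X.hom := (Over.w a.act).symm
  calc β ≫ (G ⊗ X).hom = β ≫ a.act.left ≫ X.hom := by rw [← e2]
    _ = α ≫ (snd G X).left ≫ X.hom := by rw [← Category.assoc, ← h, Category.assoc]
    _ = _ := by rw [← e1]

/-- The action groupoid `G × X ⇉ X`. -/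
noncomputable def actGrpd : Grpd.GroupoidScheme S where
  U := X.left
  R := (G ⊗ X).left
  pU := X.hom
  pR := (G ⊗ X).hom
  s := (snd G X).left
  t := a.act.left
  e := (eO : X ⟶ G ⊗ X).left
  i := (iO a).left
  c := (cO a).left
  s_over := Over.w (snd G X)
  t_over := Over.w a.act
  comp_s {T} α β h := by
    have hβ := over_eq_of_s_t a α β h
    let TO : Over S := Over.mk (α ≫ (G ⊗ X).hom)
    let αO : TO ⟶ G ⊗ X := Over.homMk α rfl
    let βO : TO ⟶ G ⊗ X := Over.homMk β hβ
    have key := bridge a TO αO βO h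
    refine (congrArg (· ≫ (snd G X).left) key).trans ?_
    exact congrArg (fun m => m.left) (compO_snd αO βO)
  comp_t {T} α β h := by
    have hβ := over_eq_of_s_t a α β h
    let TO : Over S := Over.mk (α ≫ (G ⊗ X).hom)
    let αO : TO ⟶ G ⊗ X := Over.homMk α rfl
    let βO : TO ⟶ G ⊗ X := Over.homMk β hβ
    have key := bridge a TO αO βO h
    refine (congrArg (· ≫ a.act.left) key).trans ?_
    refine congrArg (fun m => m.left) (compO_act a αO βO ?_)
    apply Over.OverMorphism.ext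
    exact h
  assoc {T} α β ζ h₁ h₂ := by
    have hβ := over_eq_of_s_t a α β h₁
    have hζ := (over_eq_of_s_t a β ζ h₂).trans hβ
    let TO : Over S := Over.mk (α ≫ (G ⊗ X).hom)
    let αO : TO ⟶ G ⊗ X := Over.homMk α rfl
    let βO : TO ⟶ G ⊗ X := Over.homMk β hβ
    let ζO : TO ⟶ G ⊗ X := Over.homMk ζ hζ
    have k1 := bridge a TO αO βO h₁
    have k2 := bridge a TO βO ζO h₂
    refine (bridge' a TO _ _ _ (compO αO βO) ζO k1.symm rfl).trans ?_
    refine Eq.trans ?_ (bridge' a TO _ _ _ αO (compO βO ζO) rfl k2.symm).symm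
    rw [compO_assoc]
  e_s := congrArg (fun m => m.left) (eO_snd (G := G) (X := X))
  e_t := congrArg (fun m => m.left) (eO_act a)
  comp_e {T} α := by
    let TO : Over S := Over.mk (α ≫ (G ⊗ X).hom)
    let αO : TO ⟶ G ⊗ X := Over.homMk α rfl
    refine (bridge' a TO _ _ _ αO (αO ≫ snd G X ≫ eO) rfl rfl).trans ?_
    rw [compO_eO]
    rfl
  e_comp {T} α := by
    let TO : Over S := Over.mk (α ≫ (G ⊗ X).hom)
    let αO : TO ⟶ G ⊗ X := Over.homMk α rfl
    refine (bridge' a TO _ _ _ (αO ≫ a.act ≫ eO) αO rfl rfl).trans ?_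
    rw [eO_compO]
    rfl
  i_s := congrArg (fun m => m.left) (iO_snd a)
  i_t := congrArg (fun m => m.left) (iO_act a)
  comp_i {T} α := by
    let TO : Over S := Over.mk (α ≫ (G ⊗ X).hom)
    let αO : TO ⟶ G ⊗ X := Over.homMk α rfl
    refine (bridge' a TO _ _ _ αO (αO ≫ iO a) rfl rfl).trans ?_
    rw [compO_iO]
    rfl
  i_comp {T} α := by
    let TO : Over S := Over.mk (α ≫ (G ⊗ X).hom)
    let αO : TO ⟶ G ⊗ X := Over.homMk α rfl
    refine (bridge' a TO _ _ _ (αO ≫ iO a) αO rfl rfl).trans ?_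
    rw [iO_compO]
    rfl

end Groth.Agent.H3.ActGrpd
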