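import Groth.Agent.Lib.Helper3.ActGrpd.Basic
import Groth.Agent.S10235
import Groth.Agent.Lib.Helper3.QuotShEff
import Mathlib

/-!
# Quotients by free actions of finite locally free group schemes (helper3)
-/

set_option autoImplicit false

universe u

open CategoryTheory CategoryTheory.Limits MonoidalCategory CartesianMonoidalCategory MonObj
  AlgebraicGeometry

namespace Groth.Agent.H3.ActGrpd

/-- In an open subscheme of an affine scheme every finite set of points lies in an affine open. -/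
theorem exists_isAffineOpen_of_openImm {X : Scheme.{u}} {R : CommRingCat.{u}} (i : X ⟶ Spec R)
    [IsOpenImmersion i] (Z : Set X) (hZ : Z.Finite) :
    ∃ U : X.Opens, IsAffineOpen U ∧ Z ⊆ U := by
  classical
  rcases Z.eq_empty_or_nonempty with rfl | ⟨z₀, hz₀⟩
  · exact ⟨⊥, isAffineOpen_bot X, Set.empty_subset _⟩
  obtain ⟨I, hI⟩ := (PrimeSpectrum.isClosed_iff_zeroLocus_ideal _).1
    (i.opensRange.2.isClosed_compl)
  have hnot : ¬ ((I : Set R) ⊆ ⋃ z ∈ (hZ.toFinset : Set X),
      (((i z : PrimeSpectrum R).asIdeal : Ideal R) : Set R)) := by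
    rw [Ideal.subset_union_prime (f := fun z : X => (i z : PrimeSpectrum R).asIdeal) z₀ z₀
      (fun z _ _ _ => (i z : PrimeSpectrum R).isPrime)]
    rintro ⟨z, -, hz⟩
    have h1 : (i z : PrimeSpectrum R) ∈ PrimeSpectrum.zeroLocus (I : Set R) :=
      (PrimeSpectrum.mem_zeroLocus (R := R) (i z) _).2 hz
    rw [← hI] at h1
    exact h1 ⟨z, rfl⟩
  obtain ⟨r, hrI, hr⟩ := Set.not_subset.1 hnot
  have hle : (PrimeSpectrum.basicOpen r : (Spec R).Opens) ≤ i.opensRange := by
    intro p hp
    by_contra hp'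
    have h1 : (p : PrimeSpectrum R) ∈ PrimeSpectrum.zeroLocus (I : Set R) := by
      rw [← hI]
      exact hp'
    have h2 := (PrimeSpectrum.mem_zeroLocus (R := R) p _).1 h1
    exact hp (h2 hrI)
  refine ⟨i ⁻¹ᵁ (PrimeSpectrum.basicOpen r), (IsAffineOpen.Spec_basicOpen r).preimage_of_isOpenImmersion
    i hle, ?_⟩
  intro z hz hzr
  apply hr
  simp only [Set.mem_iUnion]
  exact ⟨z, by simpa using hz, hzr⟩

variable {S : Scheme.{u}} {G X : Over S} [GrpObj G] (a : AlgGrp.Action G X)

lemma iO_iO : iO a ≫ iO a = 𝟙 _ := by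
  apply CartesianMonoidalCategory.hom_ext
  · rw [Category.assoc, iO_fst, GrpObj.comp_inv, iO_fst, inv_inv, Category.id_comp]
  · rw [Category.assoc, iO_snd, iO_act, Category.id_comp]

/-- The action groupoid of a free action is an equivalence relation. -/
theorem isEqvRel_of_free
    (hfree : ∀ (T : Over S) (g : T ⟶ G) (x : T ⟶ X), lift g x ≫ a.act = x → g = toUnit T ≫ η[G]) :
    AlgSp.IsEqvRel (snd G X) a.act where
  injective T r r' ht hs := by
    have h1 : sm a (r ≫ fst G X) (r ≫ snd G X) = sm a (r' ≫ fst G X) (r ≫ snd G X) := by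
      rw [← act_eq_sm, ht, act_eq_sm, hs]
    have h2 : sm a ((r' ≫ fst G X)⁻¹ * (r ≫ fst G X)) (r ≫ snd G X) = r ≫ snd G X := by
      rw [mul_sm, h1, inv_sm_sm]
    have h3 := hfree T _ _ h2
    rw [← Hom.one_def, inv_mul_eq_one] at h3
    apply CartesianMonoidalCategory.hom_ext
    · exact h3.symm
    · exact hs
  equivalence T :=
    { refl := fun x => ⟨x ≫ eO, by rw [Category.assoc, eO_act, Category.comp_id],
        by rw [Category.assoc, eO_snd, Category.comp_id]⟩
      symm := by
        rintro x y ⟨r, rfl, rfl⟩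
        exact ⟨r ≫ iO a, by rw [Category.assoc, iO_act], by rw [Category.assoc, iO_snd]⟩
      trans := by
        rintro x y z ⟨r, rfl, hr⟩ ⟨r', hr', rfl⟩
        refine ⟨compO r r', compO_act a r r' (hr.trans hr'.symm), compO_snd r r'⟩ }

open Groth.Agent.H3.QuotShEff in
/-- **Quotient of a scheme by a free action of a finite locally free group scheme.** -/
theorem exists_quotient (hG : Mor2.IsFinLocFree G.hom)
    (hfree : ∀ (T : Over S) (g : T ⟶ G) (x : T ⟶ X), lift g x ≫ a.act = x → g = toUnit T ≫ η[G])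
    (h3 : IsAffineHom X.hom ∨ (∃ (R : CommRingCat.{u}) (i : X.left ⟶ Spec R), IsOpenImmersion i) ∨
      UniversallyInjective G.hom) :
    ∃ (M : Over S) (q : X ⟶ M), QuotSh.IsQuotient Scheme.fppfPrecoverage (snd G X) a.act q ∧
      IsPullback a.act.left (snd G X).left q.left q.left ∧
      NonAbH1.IsLocallyTrivialFor Scheme.fppfPrecoverage (Over.mk q.left) := by
  obtain ⟨hG1, hG2, hG3⟩ := hG
  have hs1 : IsFinite (actGrpd a).s :=
    MorphismProperty.pullback_snd (P := @IsFinite) G.hom X.hom hG1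
  have hs2 : Flat (actGrpd a).s := MorphismProperty.pullback_snd (P := @Flat) G.hom X.hom hG2
  have hs3 : LocallyOfFinitePresentation (actGrpd a).s :=
    MorphismProperty.pullback_snd (P := @LocallyOfFinitePresentation) G.hom X.hom hG3
  have hii : (actGrpd a).i ≫ (actGrpd a).i = 𝟙 _ := congrArg (fun m => m.left) (iO_iO a)
  have hiso : IsIso (actGrpd a).i := ⟨(actGrpd a).i, hii, hii⟩
  have hts : (actGrpd a).t = (actGrpd a).i ≫ (actGrpd a).s := (actGrpd a).i_s.symm
  have ht1 : IsFinite (actGrpd a).t := by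
    rw [hts]
    exact (MorphismProperty.cancel_left_of_respectsIso @IsFinite _ _).2 hs1
  have ht2 : Flat (actGrpd a).t := by
    rw [hts]
    exact (MorphismProperty.cancel_left_of_respectsIso @Flat _ _).2 hs2
  have ht3 : LocallyOfFinitePresentation (actGrpd a).t := by
    rw [hts]
    exact (MorphismProperty.cancel_left_of_respectsIso @LocallyOfFinitePresentation _ _).2 hs3
  have heq : AlgSp.IsEqvRel (Over.homMk (actGrpd a).s (actGrpd a).s_over :
      Over.mk (actGrpd a).pR ⟶ Over.mk (actGrpd a).pU)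
      (Over.homMk (actGrpd a).t (actGrpd a).t_over) := isEqvRel_of_free a hfree
  have h3' : ∀ Z : Set ↥(actGrpd a).U, IsClosed Z → Z.Nonempty →
      ∃ u ∈ Z, ∃ W : (actGrpd a).U.Opens, IsAffineOpen W ∧
        ∀ r : ↥(actGrpd a).R, (actGrpd a).s r = u → (actGrpd a).t r ∈ W := by
    rintro Z - ⟨u, hu⟩
    refine ⟨u, hu, ?_⟩
    rcases h3 with h | ⟨R, i, hi⟩ | h
    · obtain ⟨S₀, hS₀, huS₀⟩ : ∃ S₀ : S.Opens, IsAffineOpen S₀ ∧ X.hom u ∈ S₀ := by
        obtain ⟨_, ⟨S₀, hS₀, rfl⟩, hx, -⟩ := S.isBasis_affineOpens.exists_subset_of_mem_open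
          (Set.mem_univ (X.hom u)) isOpen_univ
        exact ⟨S₀, hS₀, hx⟩
      refine ⟨X.hom ⁻¹ᵁ S₀, hS₀.preimage X.hom, ?_⟩
      intro r hr
      change X.hom ((actGrpd a).t r) ∈ S₀
      have e1 : X.hom ((actGrpd a).t r) = (actGrpd a).pR r := congr($((actGrpd a).t_over) r)
      have e2 : X.hom ((actGrpd a).s r) = (actGrpd a).pR r := congr($((actGrpd a).s_over) r)
      rw [e1, ← e2, hr]
      exact huS₀
    · have hfin : ((actGrpd a).t '' ((actGrpd a).s ⁻¹' {u})).Finite :=
        ((actGrpd a).s.finite_preimage_singleton u).image _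
      obtain ⟨W, hW, hZW⟩ := exists_isAffineOpen_of_openImm i _ hfin
      exact ⟨W, hW, fun r hr => hZW ⟨r, hr, rfl⟩⟩
    · have hinj : Function.Injective (actGrpd a).s := by
        have : UniversallyInjective (actGrpd a).s :=
          MorphismProperty.pullback_snd (P := @UniversallyInjective) G.hom X.hom h
        exact (actGrpd a).s.injective
      obtain ⟨W, hW, huW⟩ : ∃ W : X.left.Opens, IsAffineOpen W ∧ u ∈ W := by
        obtain ⟨_, ⟨W, hW, rfl⟩, hx, -⟩ := X.left.isBasis_affineOpens.exists_subset_of_mem_open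
          (Set.mem_univ u) isOpen_univ
        exact ⟨W, hW, hx⟩
      refine ⟨W, hW, ?_⟩
      intro r hr
      have e1 : (actGrpd a).s ((actGrpd a).e u) = u := congr($((actGrpd a).e_s) u)
      have e2 : (actGrpd a).t ((actGrpd a).e u) = u := congr($((actGrpd a).e_t) u)
      have e3 : r = (actGrpd a).e u := hinj (hr.trans e1.symm)
      rw [e3, e2]
      exact huW
  obtain ⟨M, m, -, hpb, hquot⟩ := Groth.Agent.S10235.result (actGrpd a) ⟨hs1, hs2, hs3⟩
    ⟨ht1, ht2, ht3⟩ heq h3'
  have hkp : IsKernelPair (m : X ⟶ M) (snd G X) a.act := by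
    refine IsPullback.of_map (Over.forget S) ?_ hpb.flip
    apply Over.OverMorphism.ext
    exact hpb.flip.w
  have hER : IsEquivalenceRelation (snd G X) a.act :=
    (IsKernelPair.equivalenceRelation (m : X ⟶ M) (snd G X) a.act
      (pullbackIsPullback a.act (snd G X)) hkp).isEquivalenceRelation
  have hquot' : QuotSh.IsQuotient Scheme.fppfPrecoverage (snd G X) a.act (m : X ⟶ M) := hquot
  obtain ⟨-, hl⟩ := isKernelPair_and_hasLocalLifts_of_isQuotient Scheme.fppfPrecoverage
    (snd G X) a.act (m : X ⟶ M) hquot'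
  exact ⟨M, m, hquot', hpb, isLocallyTrivialFor_of_hasLocalLifts Scheme.fppfPrecoverage
    (m : X ⟶ M) hl⟩

end Groth.Agent.H3.ActGrpd
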